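import Cfsg.Agent.Recog71.PrimeGraphExt

/-!
Fibre products preserving the prime graph, and the clique lemma.
-/

set_option autoImplicit false

namespace Cfsg.Agent.PrimeGraph74

open Subgroup Function

/-- Groups with the prime graph of `G` have unbounded order. -/
def Unbounded (G : Type*) [Group G] : Prop :=
  ∀ n : ℕ, ∃ (H : Type) (_ : Group H) (_ : Finite H), n < Nat.card H ∧ Recog71.SameGraph G H

/-- An element of order `a * b` exists. -/
def PAdj (G : Type*) [Group G] (a b : ℕ) : Prop := ∃ g : G, orderOf g = a * b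

theorem PAdj.symm {G : Type*} [Group G] {a b : ℕ} (h : PAdj G a b) : PAdj G b a := by
  obtain ⟨g, hg⟩ := h
  exact ⟨g, by rw [hg, mul_comm]⟩

theorem exists_preimage_orderOf {G H : Type*} [Group G] [Finite G] [Group H] {f : G →* H}
    (hf : Surjective f) (x : H) : ∃ g : G, orderOf g = orderOf x := by
  obtain ⟨g, rfl⟩ := hf x
  obtain ⟨d, hd⟩ := orderOf_map_dvd f g
  have hd0 : d ≠ 0 := by
    rintro rfl
    rw [mul_zero] at hd
    exact (orderOf_pos g).ne' hd
  exact ⟨g ^ d, Recog71.exists_pow_orderOf (by rw [hd, mul_comm]) hd0⟩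

theorem PAdj.of_surjective {G H : Type*} [Group G] [Finite G] [Group H] {f : G →* H}
    (hf : Surjective f) {a b : ℕ} (h : PAdj H a b) : PAdj G a b := by
  obtain ⟨x, hx⟩ := h
  obtain ⟨g, hg⟩ := exists_preimage_orderOf hf x
  exact ⟨g, hg.trans hx⟩

variable {G : Type*} [Group G] {Q : Type*} [Group Q] {X : Type*} [Group X]

/-- The fibre product. -/
def fib (π₁ : G →* Q) (π₂ : X →* Q) : Subgroup (G × X) :=
  (π₁.comp (MonoidHom.fst G X)).eqLocus (π₂.comp (MonoidHom.snd G X))

theorem mem_fib {π₁ : G →* Q} {π₂ : X →* Q} {z : G × X} : z ∈ fib π₁ π₂ ↔ π₁ z.1 = π₂ z.2 :=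
  Iff.rfl

/-- First projection. -/
def fibFst (π₁ : G →* Q) (π₂ : X →* Q) : fib π₁ π₂ →* G :=
  (MonoidHom.fst G X).comp (fib π₁ π₂).subtype

/-- Second projection. -/
def fibSnd (π₁ : G →* Q) (π₂ : X →* Q) : fib π₁ π₂ →* X :=
  (MonoidHom.snd G X).comp (fib π₁ π₂).subtype

theorem fibFst_surjective {π₁ : G →* Q} {π₂ : X →* Q} (h2 : Surjective π₂) :
    Surjective (fibFst π₁ π₂) := fun g => by
  obtain ⟨x, hx⟩ := h2 (π₁ g)
  exact ⟨⟨(g, x), mem_fib.mpr hx.symm⟩, rfl⟩

theorem fibSnd_surjective {π₁ : G →* Q} {π₂ : X →* Q} (h1 : Surjective π₁) :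
    Surjective (fibSnd π₁ π₂) := fun x => by
  obtain ⟨g, hg⟩ := h1 (π₂ x)
  exact ⟨⟨(g, x), mem_fib.mpr hg⟩, rfl⟩

/-- The fibre product has the prime graph of `G`. -/
theorem sameGraph_fib [Finite G] [Finite X] (π₁ : G →* Q) (π₂ : X →* Q)
    (h2 : Surjective π₂)
    (hp : ∀ r : ℕ, r.Prime → r ∣ Nat.card X → r ∣ Nat.card G)
    (hadj : ∀ a b : ℕ, a.Prime → b.Prime → a ≠ b → PAdj X a b → PAdj G a b)
    (hker : ∀ a b : ℕ, a.Prime → b.Prime → a ≠ b → a ∣ Nat.card π₁.ker →
      b ∣ Nat.card π₂.ker → PAdj G a b) :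
    Recog71.SameGraph G (fib π₁ π₂) := by
  refine ⟨fun r hr => ?_, fun a b ha hb hne => ⟨fun h => PAdj.of_surjective (fibFst_surjective h2) h,
    ?_⟩⟩
  · haveI := Fact.mk hr
    constructor
    · intro h
      obtain ⟨x, hx⟩ := exists_prime_orderOf_dvd_card' r h
      obtain ⟨y, hy⟩ := exists_preimage_orderOf (fibFst_surjective (π₁ := π₁) h2) x
      exact hx ▸ hy ▸ orderOf_dvd_natCard y
    · intro h
      obtain ⟨⟨⟨g, x⟩, hz⟩, hord⟩ := exists_prime_orderOf_dvd_card' r h
      rw [← Subgroup.orderOf_coe, Prod.orderOf] at hord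
      have hg : orderOf g ∣ r := hord ▸ Nat.dvd_lcm_left _ _
      rcases hr.eq_one_or_self_of_dvd _ hg with h1 | h1
      · refine hp r hr ?_
        simp only at hord
        rw [h1, Nat.lcm_one_left] at hord
        exact hord ▸ orderOf_dvd_natCard x
      · exact h1 ▸ orderOf_dvd_natCard g
  · rintro ⟨⟨⟨g, x⟩, hz⟩, hord⟩
    rw [← Subgroup.orderOf_coe, Prod.orderOf] at hord
    simp only at hord
    have hmem : π₁ g = π₂ x := hz
    have main : ∀ a b : ℕ, a.Prime → b.Prime → a ≠ b → orderOf g = a → orderOf x = b →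
        PAdj G a b := by
      intro a b ha hb hne h1 h2'
      have hq : orderOf (π₁ g) = 1 := by
        refine Nat.dvd_one.mp ?_
        have e : Nat.gcd a b = 1 := (Nat.coprime_primes ha hb).mpr hne
        rw [← e]
        exact Nat.dvd_gcd (h1 ▸ orderOf_map_dvd π₁ g) (hmem ▸ h2' ▸ orderOf_map_dvd π₂ x)
      rw [orderOf_eq_one_iff] at hq
      refine hker a b ha hb hne ?_ ?_
      · rw [← h1]
        exact Subgroup.orderOf_dvd_natCard π₁.ker hq
      · rw [← h2']
        exact Subgroup.orderOf_dvd_natCard π₂.ker (hmem ▸ hq : π₂ x = 1)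
    have hg : orderOf g ∣ a * b := hord ▸ Nat.dvd_lcm_left _ _
    have hx : orderOf x ∣ a * b := hord ▸ Nat.dvd_lcm_right _ _
    have hcases : ∀ d, d ∣ a * b → d = 1 ∨ d = a ∨ d = b ∨ d = a * b := by
      intro d hd
      obtain ⟨c, e, hc, he, rfl⟩ := Nat.dvd_mul.mp hd
      rcases ha.eq_one_or_self_of_dvd c hc with rfl | rfl <;>
        rcases hb.eq_one_or_self_of_dvd e he with rfl | rfl <;> simp
    have h1a : 1 ≠ a * b := by
      have := Nat.mul_le_mul ha.two_le hb.two_le; omega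
    have haab : a ≠ a * b := fun h => hb.ne_one ((mul_eq_left₀ ha.ne_zero).mp h.symm)
    have hbab : b ≠ a * b := fun h => ha.ne_one ((mul_eq_right₀ hb.ne_zero).mp h.symm)
    rcases hcases _ hg with h1 | h1 | h1 | h1
    · refine hadj a b ha hb hne ⟨x, ?_⟩
      rwa [h1, Nat.lcm_one_left] at hord
    · rcases hcases _ hx with h3 | h3 | h3 | h3
      · exact absurd (by rwa [h1, h3, Nat.lcm_one_right] at hord) haab
      · exact absurd (by rwa [h1, h3, Nat.lcm_self] at hord) haab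
      · exact main a b ha hb hne h1 h3
      · exact hadj a b ha hb hne ⟨x, h3⟩
    · rcases hcases _ hx with h3 | h3 | h3 | h3
      · exact absurd (by rwa [h1, h3, Nat.lcm_one_right] at hord) hbab
      · exact (main b a hb ha hne.symm h1 h3).symm
      · exact absurd (by rwa [h1, h3, Nat.lcm_self] at hord) hbab
      · exact hadj a b ha hb hne ⟨x, h3⟩
    · exact ⟨g, h1⟩

/-- A model in `Type`. -/
theorem exists_type_zero (H : Type*) [Group H] [Finite H] :
    ∃ (K : Type) (_ : Group K) (_ : Finite K), Nonempty (H ≃* K) := by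
  haveI : Finite (Shrink.{0} H) := Finite.of_equiv H (equivShrink.{0} H)
  exact ⟨Shrink.{0} H, inferInstance, inferInstance, ⟨(Shrink.mulEquiv).symm⟩⟩

theorem sameGraph_symm_of_mulEquiv {H K : Type*} [Group H] [Group K]
    (h : Recog71.SameGraph G H) (e : H ≃* K) : Recog71.SameGraph G K := by
  refine ⟨fun r hr => ?_, fun r s hr hs hne => ?_⟩
  · rw [← Nat.card_congr e.toEquiv]; exact h.1 r hr
  · rw [h.2 r s hr hs hne]
    exact ⟨fun ⟨x, hx⟩ => ⟨e x, by rw [MulEquiv.orderOf_eq, hx]⟩,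
      fun ⟨x, hx⟩ => ⟨e.symm x, by rw [MulEquiv.orderOf_eq, hx]⟩⟩

theorem unbounded_of_forall
    (h : ∀ n : ℕ, ∃ (X : Type) (_ : Group X) (_ : Finite X) (π₂ : X →* Q) (π₁ : G →* Q),
      Surjective π₁ ∧ Surjective π₂ ∧ n < Nat.card X ∧
      (∀ r : ℕ, r.Prime → r ∣ Nat.card X → r ∣ Nat.card G) ∧
      (∀ a b : ℕ, a.Prime → b.Prime → a ≠ b → PAdj X a b → PAdj G a b) ∧
      (∀ a b : ℕ, a.Prime → b.Prime → a ≠ b → a ∣ Nat.card π₁.ker →
        b ∣ Nat.card π₂.ker → PAdj G a b)) [Finite G] : Unbounded G := by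
  intro n
  obtain ⟨X, _, _, π₂, π₁, h1, h2, hn, hp, hadj, hker⟩ := h n
  obtain ⟨K, _, _, ⟨e⟩⟩ := exists_type_zero (fib π₁ π₂)
  refine ⟨K, inferInstance, inferInstance, ?_,
    sameGraph_symm_of_mulEquiv (sameGraph_fib π₁ π₂ h2 hp hadj hker) e⟩
  rw [← Nat.card_congr e.toEquiv]
  exact lt_of_lt_of_le hn (Nat.card_le_card_of_surjective _ (fibSnd_surjective h1))

/-- A nontrivial normal subgroup whose primes form a clique gives unboundedly many groups. -/
theorem unbounded_of_clique [Finite G] (N : Subgroup G) [N.Normal] (hN : N ≠ ⊥)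
    (hcl : ∀ a b : ℕ, a.Prime → b.Prime → a ≠ b → a ∣ Nat.card N → b ∣ Nat.card N → PAdj G a b) :
    Unbounded G := by
  set π₁ := QuotientGroup.mk' N with hπ₁
  have hs1 : Surjective π₁ := QuotientGroup.mk'_surjective N
  have hk1 : π₁.ker = N := QuotientGroup.ker_mk' N
  have key : ∀ k : ℕ, ∃ (X : Type) (_ : Group X) (_ : Finite X) (π₂ : X →* G ⧸ N),
      Surjective π₂ ∧ k < Nat.card X ∧
      (∀ r : ℕ, r.Prime → r ∣ Nat.card X → r ∣ Nat.card G) ∧
      (∀ a b : ℕ, a.Prime → b.Prime → a ≠ b → PAdj X a b → PAdj G a b) ∧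
      (∀ r : ℕ, r.Prime → r ∣ Nat.card π₂.ker → r ∣ Nat.card N) := by
    intro k
    induction k with
    | zero =>
      obtain ⟨K, _, _, ⟨e⟩⟩ := exists_type_zero G
      refine ⟨K, inferInstance, inferInstance, π₁.comp e.symm.toMonoidHom,
        hs1.comp e.symm.surjective, Nat.card_pos, fun r _ h => ?_, ?_, fun r hr h => ?_⟩
      · rwa [Nat.card_congr e.toEquiv]
      · intro a b _ _ _ hab
        exact PAdj.of_surjective (f := e.toMonoidHom) e.surjective hab
      · haveI := Fact.mk hr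
        obtain ⟨x, hx⟩ := exists_prime_orderOf_dvd_card' r h
        have hm : e.symm (x : K) ∈ N := (SetLike.ext_iff.mp hk1 _).mp x.2
        rw [← hx, ← Subgroup.orderOf_coe, ← MulEquiv.orderOf_eq e.symm]
        exact Subgroup.orderOf_dvd_natCard N hm
    | succ k ih =>
      obtain ⟨X, _, _, π₂, hs2, hk, hp, hadj, hkp⟩ := ih
      have hker : ∀ a b : ℕ, a.Prime → b.Prime → a ≠ b → a ∣ Nat.card π₁.ker →
          b ∣ Nat.card π₂.ker → PAdj G a b := fun a b ha hb hne h1 h2 =>
        hcl a b ha hb hne (hk1 ▸ h1) (hkp b hb h2)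
      have hsame := sameGraph_fib π₁ π₂ hs2 hp hadj hker
      obtain ⟨K, _, _, ⟨e⟩⟩ := exists_type_zero (fib π₁ π₂)
      have hsame' := sameGraph_symm_of_mulEquiv hsame e
      refine ⟨K, inferInstance, inferInstance,
        (π₁.comp (fibFst π₁ π₂)).comp e.symm.toMonoidHom,
        (hs1.comp (fibFst_surjective hs2)).comp e.symm.surjective, ?_,
        fun r hr h => (hsame'.1 r hr).mpr h, fun a b ha hb hne h => (hsame'.2 a b ha hb hne).mpr h,
        fun r hr h => ?_⟩
      · rw [← Nat.card_congr e.toEquiv]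
        have e1 := (fibSnd π₁ π₂).ker.card_mul_index
        rw [Subgroup.index_ker, MonoidHom.range_eq_top.mpr (fibSnd_surjective hs1),
          Subgroup.card_top] at e1
        have e2 : 1 < Nat.card (fibSnd π₁ π₂).ker := by
          haveI := (Subgroup.nontrivial_iff_ne_bot N).mpr hN
          obtain ⟨⟨m, hm⟩, hm1⟩ := exists_ne (1 : N)
          refine (Finite.one_lt_card_iff_nontrivial).mpr ⟨⟨⟨(m, 1), mem_fib.mpr ?_⟩, rfl⟩, 1, ?_⟩
          · rw [map_one]
            exact (QuotientGroup.eq_one_iff m).mpr hm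
          · intro h
            apply hm1
            have := congrArg (fun z : (fibSnd π₁ π₂).ker => ((z : fib π₁ π₂) : G × X).1) h
            exact Subtype.ext this
        rw [← e1]
        calc k + 1 < 2 * Nat.card X := by omega
          _ ≤ Nat.card (fibSnd π₁ π₂).ker * Nat.card X := Nat.mul_le_mul_right _ e2
      · haveI := Fact.mk hr
        obtain ⟨z, hz⟩ := exists_prime_orderOf_dvd_card' r h
        set w : fib π₁ π₂ := e.symm (z : K) with hw
        have hw1 : π₁ ((w : G × X).1) = 1 := z.2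
        have hw2 : π₂ ((w : G × X).2) = 1 := by rw [← mem_fib.mp w.2]; exact hw1
        have hord : Nat.lcm (orderOf (w : G × X).1) (orderOf (w : G × X).2) = r := by
          rw [← Prod.orderOf, Subgroup.orderOf_coe, hw, MulEquiv.orderOf_eq, Subgroup.orderOf_coe,
            hz]
        rcases hr.eq_one_or_self_of_dvd _ (hord ▸ Nat.dvd_lcm_left _ _ :
          orderOf (w : G × X).1 ∣ r) with h1 | h1
        · rw [h1, Nat.lcm_one_left] at hord
          exact hkp r hr (hord ▸ Subgroup.orderOf_dvd_natCard π₂.ker hw2)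
        · rw [← h1]
          exact Subgroup.orderOf_dvd_natCard N ((SetLike.ext_iff.mp hk1 _).mp hw1)
  refine unbounded_of_forall (G := G) (Q := G ⧸ N) fun n => ?_
  obtain ⟨X, _, _, π₂, hs2, hk, hp, hadj, hkp⟩ := key n
  exact ⟨X, inferInstance, inferInstance, π₂, π₁, hs1, hs2, hk, hp, hadj,
    fun a b ha hb hne h1 h2 => hcl a b ha hb hne (hk1 ▸ h1) (hkp b hb h2)⟩

end Cfsg.Agent.PrimeGraph74
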