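import Cfsg.Agent.PrimeGraph74.Supplement
import Cfsg.Agent.RecogB.Socle
import Cfsg.Agent.PF14.Compose

/-!
A prime graph realised by groups of bounded order only belongs to almost simple groups.
-/

set_option autoImplicit false
set_option linter.style.haveILetI false

namespace Cfsg.Agent.PrimeGraph74

open Subgroup Function

variable {G : Type} [Group G] [Finite G]

/-- No nontrivial abelian normal subgroup. -/
theorem not_isMulCommutative (h : ¬ Unbounded G) (A : Subgroup G) [A.Normal] (hA : A ≠ ⊥) :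
    ¬ IsMulCommutative A := by
  intro hc
  refine h (unbounded_of_clique A hA fun a b ha hb hne ha' hb' => ?_)
  haveI := Fact.mk ha
  haveI := Fact.mk hb
  obtain ⟨x, hx⟩ := exists_prime_orderOf_dvd_card' a ha'
  obtain ⟨y, hy⟩ := exists_prime_orderOf_dvd_card' b hb'
  exact Recog71.exists_orderOf_mul_of_commute
    (Commute.map (hc.is_comm.comm x y) A.subtype) ha hb hne
    (by rw [Subgroup.coe_subtype, Subgroup.orderOf_coe, hx])
    (by rw [Subgroup.coe_subtype, Subgroup.orderOf_coe, hy])

/-- Minimal normal subgroups have even order. -/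
theorem two_dvd_card_of_minimal (h : ¬ Unbounded G) (N : Subgroup G) [hNn : N.Normal] (hN : N ≠ ⊥)
    (hmin : ∀ M : Subgroup G, M.Normal → M ≤ N → M = ⊥ ∨ M = N) : 2 ∣ Nat.card N := by
  by_contra h2
  haveI : Group.IsSolvable N :=
    PF14.feitThompson N (Nat.odd_iff.mpr (by omega))
  haveI : Nontrivial N := (Subgroup.nontrivial_iff_ne_bot N).mpr hN
  have hlt := Group.IsSolvable.commutator_lt_top_of_nontrivial N
  rcases hmin ⁅N, N⁆ (Subgroup.commutator_normal N N) (Subgroup.commutator_le_self N) with h1 | h1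
  · refine not_isMulCommutative h N hN ⟨⟨fun a b => Subtype.ext ?_⟩⟩
    exact Subgroup.mem_centralizer_iff.mp
      (Subgroup.commutator_eq_bot_iff_le_centralizer.mp h1 b.2) a a.2
  · refine hlt.ne ?_
    apply Subgroup.map_injective N.subtype_injective
    rw [commutator_def, Subgroup.map_commutator, ← MonoidHom.range_eq_map, Subgroup.range_subtype,
      h1]

theorem exists_minimal_normal (K : Subgroup G) [hK : K.Normal] (hne : K ≠ ⊥) :
    ∃ N : Subgroup G, N.Normal ∧ N ≠ ⊥ ∧ N ≤ K ∧
      ∀ M : Subgroup G, M.Normal → M ≤ N → M = ⊥ ∨ M = N := by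
  obtain ⟨N, hle, hN⟩ := exists_minimal_le_of_wellFoundedLT
    (fun N : Subgroup G => N.Normal ∧ N ≠ ⊥) K ⟨hK, hne⟩
  refine ⟨N, hN.1.1, hN.1.2, hle, fun M hM hMN => ?_⟩
  by_cases hb : M = ⊥
  · exact Or.inl hb
  · exact Or.inr (le_antisymm hMN (hN.2 ⟨hM, hb⟩ hMN))

/-- The primes of a minimal normal subgroup divide the order of each of its factors. -/
theorem dvd_card_factor {N T : Subgroup G} [N.Normal] (hT : RecogB.IsFactor N T)
    (hmin : ∀ M : Subgroup G, M.Normal → M ≤ N → M = ⊥ ∨ M = N) {r : ℕ} (hr : r.Prime)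
    (hrN : r ∣ Nat.card N) : r ∣ Nat.card T := by
  classical
  haveI := Fintype.ofFinite G
  let K : G → Subgroup N := fun g => (RecogB.cj g T).subgroupOf N
  have hKn : ∀ g, (K g).Normal := fun g =>
    ⟨fun x hx n => (hT.cj g).nrm n n.2 _ hx⟩
  have hKc : ∀ g, Nat.card (K g) = Nat.card T := fun g =>
    (Nat.card_congr (Subgroup.subgroupOfEquivOfLe (hT.cj g).le).toEquiv).trans
      (Subgroup.card_map_of_injective (MulAut.conj g).injective)
  have hind : ∀ s : Finset G, (s.sup K).Normal ∧ (r ∣ Nat.card ↥(s.sup K) → r ∣ Nat.card T) := by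
    intro s
    induction s using Finset.induction with
    | empty =>
      rw [Finset.sup_empty]
      refine ⟨inferInstance, fun h => ?_⟩
      rw [Subgroup.card_bot] at h
      exact absurd (Nat.dvd_one.mp h) hr.ne_one
    | insert g s _ ih =>
      rw [Finset.sup_insert]
      haveI := hKn g
      haveI := ih.1
      refine ⟨inferInstance, fun h => ?_⟩
      rcases (Nat.Prime.dvd_mul hr).mp (h.trans (Thompson.card_sup_dvd_mul _ _)) with h1 | h1
      · rwa [hKc] at h1
      · exact ih.2 h1
  refine (hind Finset.univ).2 ?_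
  have htop : Finset.univ.sup K = ⊤ := by
    apply Subgroup.map_injective N.subtype_injective
    rw [← MonoidHom.range_eq_map, Subgroup.range_subtype]
    refine le_antisymm (Subgroup.map_subtype_le _) ?_
    refine (hT.generate hmin).ge.trans (iSup_le fun g => ?_)
    intro x hx
    exact ⟨⟨x, (hT.cj g).le hx⟩, Finset.le_sup (f := K) (Finset.mem_univ g) hx, rfl⟩
  rwa [htop, Subgroup.card_top]

/-- A group whose prime graph bounds the order is almost simple. -/
theorem exists_almostSimple [Nontrivial G] (h : ¬ Unbounded G) :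
    ∃ N : Subgroup G, N.Normal ∧ IsSimpleGroup ↥N ∧ ¬ IsMulCommutative ↥N ∧
      Subgroup.centralizer (N : Set G) = ⊥ := by
  obtain ⟨N, hNn, hN, -, hmin⟩ := exists_minimal_normal (⊤ : Subgroup G) top_ne_bot
  haveI := hNn
  haveI : Fact (Nat.Prime 2) := ⟨Nat.prime_two⟩
  have h2 := two_dvd_card_of_minimal h N hN hmin
  have hC : Subgroup.centralizer (N : Set G) = ⊥ := by
    by_contra hC
    obtain ⟨M, hMn, hM, hMC, hMmin⟩ := exists_minimal_normal _ hC
    haveI := hMn
    obtain ⟨c, hc⟩ := exists_prime_orderOf_dvd_card' 2 (two_dvd_card_of_minimal h M hM hMmin)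
    refine h (unbounded_of_two_adj N h2 fun r hr hr2 hrN => ?_)
    haveI := Fact.mk hr
    obtain ⟨x, hx⟩ := exists_prime_orderOf_dvd_card' r hrN
    exact Recog71.exists_orderOf_mul_of_commute
      (show Commute (c : G) (x : G) from
        (Subgroup.mem_centralizer_iff.mp (hMC c.2) x x.2).symm)
      Nat.prime_two hr (Ne.symm hr2) (by rw [Subgroup.orderOf_coe, hc])
      (by rw [Subgroup.orderOf_coe, hx])
  have hna := not_isMulCommutative h N hN
  obtain ⟨T, hT⟩ := RecogB.exists_isFactor hN hmin hna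
  refine ⟨N, hNn, ?_, hna, hC⟩
  by_cases hTN : T = N
  · exact hTN ▸ hT.simple
  exfalso
  obtain ⟨g, hg⟩ : ∃ g, RecogB.cj g T ≠ T := by
    by_contra hall
    push Not at hall
    refine hTN (le_antisymm hT.le ?_)
    exact (hT.generate hmin).ge.trans (iSup_le fun g => (hall g).le)
  refine h (unbounded_of_clique N hN fun a b ha hb hne ha' hb' => ?_)
  haveI := Fact.mk ha
  haveI := Fact.mk hb
  obtain ⟨x, hx⟩ := exists_prime_orderOf_dvd_card' a (dvd_card_factor hT hmin ha ha')
  obtain ⟨y, hy⟩ := exists_prime_orderOf_dvd_card' b (dvd_card_factor (hT.cj g) hmin hb hb')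
  exact Recog71.exists_orderOf_mul_of_commute
    (show Commute (x : G) (y : G) from
      ((hT.eq_or_commute (hT.cj g)).resolve_left hg) x x.2 y y.2)
    ha hb hne (by rw [Subgroup.orderOf_coe, hx]) (by rw [Subgroup.orderOf_coe, hy])

end Cfsg.Agent.PrimeGraph74
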