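import Cfsg.Agent.PrimeGraph74.Fibre
import Cfsg.Agent.Lib.Coprime.HallHigman
import Cfsg.Agent.Lib.Thompson.Cores
import Mathlib.GroupTheory.Transfer
import Mathlib.GroupTheory.Nilpotent

/-!
An extension by an induced 2-module on which the primes not adjacent to 2 act without fixed points.
-/

set_option autoImplicit false
set_option linter.style.haveILetI false

namespace Cfsg.Agent.PrimeGraph74

open Subgroup Function

/-- A central `s`-element of a group generated by `s'`-elements with abelian Sylow `s`-subgroup. -/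
theorem eq_one_of_central {K : Type*} [Group K] [Finite K] {s : ℕ} [hs : Fact s.Prime]
    (S : Set K) (hS : ∀ k ∈ S, (orderOf k).Coprime s) (hgen : closure S = ⊤)
    (P : Sylow s K) (hab : ∀ a ∈ (P : Subgroup K), ∀ b ∈ (P : Subgroup K), a * b = b * a)
    {z : K} (hz : z ∈ Subgroup.center K) {k : ℕ} (hzs : z ^ s ^ k = 1) : z = 1 := by
  letI : CommGroup (P : Subgroup K) :=
    { (inferInstance : Group (P : Subgroup K)) with
      mul_comm := fun a b => Subtype.ext (hab a a.2 b b.2) }
  set T : K →* (P : Subgroup K) := MonoidHom.transfer (MonoidHom.id (P : Subgroup K))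
  have hT : T = 1 := by
    refine MonoidHom.eq_of_eqOn_dense hgen fun x hx => ?_
    have h1 : orderOf (T x) ∣ orderOf x := orderOf_map_dvd T x
    obtain ⟨j, hj⟩ := IsPGroup.iff_orderOf.mp P.isPGroup' (T x)
    have h2 : orderOf (T x) = 1 := Nat.eq_one_of_dvd_coprimes ((hS x hx).pow_right j) h1 hj.dvd
    exact orderOf_eq_one_iff.mp h2
  have hconj : ∀ (i : ℕ) (g₀ : K), g₀⁻¹ * z ^ i * g₀ ∈ (P : Subgroup K) →
      g₀⁻¹ * z ^ i * g₀ = z ^ i := by
    intro i g₀ _
    rw [mul_assoc, ← Subgroup.mem_center_iff.mp (Subgroup.pow_mem _ hz i) g₀, inv_mul_cancel_left]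
  have h2 := MonoidHom.transfer_eq_pow (MonoidHom.id (P : Subgroup K)) z hconj
  have h3 : z ^ (P : Subgroup K).index = 1 := by
    have := h2.symm.trans (DFunLike.congr_fun hT z)
    exact congrArg Subtype.val this
  have hco : (s ^ k).Coprime (P : Subgroup K).index :=
    (hs.out.coprime_iff_not_dvd.mpr P.not_dvd_index).pow_left k
  exact orderOf_eq_one_iff.mp (Nat.eq_one_of_dvd_coprimes hco
    (orderOf_dvd_of_pow_eq_one hzs) (orderOf_dvd_of_pow_eq_one h3))

theorem normal_closure_of_invariant {Γ : Type*} [Group Γ] (S : Set Γ)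
    (h : ∀ x ∈ S, ∀ g : Γ, g * x * g⁻¹ ∈ S) : (Subgroup.closure S).Normal := by
  refine ⟨fun x hx g => ?_⟩
  induction hx using Subgroup.closure_induction with
  | mem y hy => exact Subgroup.subset_closure (h y hy g)
  | one => simp
  | mul a b _ _ iha ihb =>
    have : g * (a * b) * g⁻¹ = (g * a * g⁻¹) * (g * b * g⁻¹) := by group
    rw [this]; exact mul_mem iha ihb
  | inv a _ iha =>
    have : g * a⁻¹ * g⁻¹ = (g * a * g⁻¹)⁻¹ := by group
    rw [this]; exact inv_mem iha

section SPart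

variable {Γ : Type*} [Group Γ]

/-- The subgroup generated by the `s`-elements of `D`. -/
def sPart (D : Subgroup Γ) (s : ℕ) : Subgroup Γ :=
  Subgroup.closure {d | d ∈ D ∧ ∃ k, d ^ s ^ k = 1}

theorem sPart_le (D : Subgroup Γ) (s : ℕ) : sPart D s ≤ D :=
  (Subgroup.closure_le _).mpr fun _ h => h.1

theorem mem_sPart {D : Subgroup Γ} {s : ℕ} {d : Γ} (hd : d ∈ D) {k : ℕ} (h : d ^ s ^ k = 1) :
    d ∈ sPart D s :=
  Subgroup.subset_closure ⟨hd, k, h⟩

theorem sPart_normal (D : Subgroup Γ) [hD : D.Normal] (s : ℕ) : (sPart D s).Normal :=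
  normal_closure_of_invariant _ fun x ⟨hx, k, hk⟩ g =>
    ⟨hD.conj_mem x hx g, k, by rw [conj_pow, hk]; group⟩

theorem isPGroup_sPart [Finite Γ] (D : Subgroup Γ) (hnil : Group.IsNilpotent D) (s : ℕ)
    [hs : Fact s.Prime] : IsPGroup s (sPart D s) := by
  haveI := hnil
  let P : Sylow s D := default
  haveI : (P : Subgroup D).Normal :=
    P.normal_of_normalizerCondition Group.normalizerCondition_of_isNilpotent
  refine IsPGroup.to_le (P.isPGroup'.map D.subtype) ((Subgroup.closure_le _).mpr ?_)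
  rintro d ⟨hd, k, hk⟩
  refine ⟨⟨d, hd⟩, ?_, rfl⟩
  have hz : IsPGroup s (Subgroup.zpowers (⟨d, hd⟩ : D)) := by
    refine IsPGroup.iff_card.mpr ?_
    rw [Nat.card_zpowers]
    obtain ⟨j, -, hj⟩ := (Nat.dvd_prime_pow hs.out).mp
      (orderOf_dvd_of_pow_eq_one (x := (⟨d, hd⟩ : D)) (n := s ^ k) (Subtype.ext hk))
    exact ⟨j, hj⟩
  have hmax := P.is_maximal' (hz.to_sup_of_normal_right P.isPGroup') le_sup_right
  exact hmax ▸ Subgroup.mem_sup_left (Subgroup.mem_zpowers _)

end SPart

theorem exists_pPart {Γ : Type*} [Group Γ] [Finite Γ] {s : ℕ} (hs : s.Prime) (d : Γ) :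
    ∃ k m : ℕ, ¬ s ∣ m ∧ (d ^ m) ^ s ^ k = 1 := by
  obtain ⟨k, m, hm, h⟩ := Nat.exists_eq_pow_mul_and_not_dvd (orderOf_pos d).ne' s hs.ne_one
  exact ⟨k, m, hm, by rw [← pow_mul, mul_comm, ← h, pow_orderOf_eq_one]⟩

section Induced

variable {Γ : Type} [Group Γ] {V₀ : Type} [Group V₀]

/-- The functions semi-invariant under `B` and invariant under `E`. -/
def indSub (φ : Γ →* MulAut V₀) (B E : Subgroup Γ) : Subgroup (Γ → V₀) where
  carrier := {f | (∀ b ∈ B, ∀ x, f (b * x) = φ b (f x)) ∧ ∀ d ∈ E, ∀ x, f (d * x) = f x}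
  one_mem' := ⟨fun b _ x => by simp, fun d _ x => rfl⟩
  mul_mem' := fun {f g} hf hg => ⟨fun b hb x => by simp [hf.1 b hb, hg.1 b hb],
    fun d hd x => by simp [hf.2 d hd, hg.2 d hd]⟩
  inv_mem' := fun {f} hf => ⟨fun b hb x => by simp [hf.1 b hb], fun d hd x => by simp [hf.2 d hd]⟩

/-- Right translation on `indSub`. -/
def indAct (φ : Γ →* MulAut V₀) (B E : Subgroup Γ) : Γ →* MulAut (indSub φ B E) where
  toFun y :=
    { toFun := fun f => ⟨fun x => (f : Γ → V₀) (x * y),
        fun b hb x => by simpa [mul_assoc] using f.2.1 b hb (x * y),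
        fun d hd x => by simpa [mul_assoc] using f.2.2 d hd (x * y)⟩
      invFun := fun f => ⟨fun x => (f : Γ → V₀) (x * y⁻¹),
        fun b hb x => by simpa [mul_assoc] using f.2.1 b hb (x * y⁻¹),
        fun d hd x => by simpa [mul_assoc] using f.2.2 d hd (x * y⁻¹)⟩
      left_inv := fun f => Subtype.ext (funext fun x => by simp)
      right_inv := fun f => Subtype.ext (funext fun x => by simp)
      map_mul' := fun f g => rfl }
  map_one' := MulEquiv.ext fun f => Subtype.ext (funext fun x => by simp)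
  map_mul' y z := MulEquiv.ext fun f => Subtype.ext (funext fun x => by simp [mul_assoc])

theorem indAct_apply (φ : Γ →* MulAut V₀) (B E : Subgroup Γ) (y : Γ) (f : indSub φ B E) (x : Γ) :
    ((indAct φ B E y f : indSub φ B E) : Γ → V₀) x = (f : Γ → V₀) (x * y) := rfl

theorem le_ker_indAct (φ : Γ →* MulAut V₀) (B E : Subgroup Γ) [hE : E.Normal] :
    E ≤ (indAct φ B E).ker := by
  intro d hd
  refine MulEquiv.ext fun f => Subtype.ext (funext fun x => ?_)
  rw [indAct_apply, MulAut.one_apply,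
    show x * d = x * d * x⁻¹ * x by group, f.2.2 _ (hE.conj_mem d hd x)]

theorem eq_one_of_indAct_fixed (φ : Γ →* MulAut V₀) (B E : Subgroup Γ) [hB : B.Normal] {y : Γ}
    (hy : y ∈ B) (hfix : ∀ g : Γ, ∀ v, φ (g * y * g⁻¹) v = v → v = 1) {f : indSub φ B E}
    (hf : indAct φ B E y f = f) : f = 1 := by
  refine Subtype.ext (funext fun x => hfix x _ ?_)
  rw [← f.2.1 _ (hB.conj_mem y hy x), show x * y * x⁻¹ * x = x * y by group, ← indAct_apply, hf]

theorem exists_ne_one_indSub [Nontrivial V₀] (φ : Γ →* MulAut V₀) (B E : Subgroup Γ) [hE : E.Normal]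
    (hker : ∀ d ∈ B, d ∈ E → φ d = 1) : ∃ f : indSub φ B E, f ≠ 1 := by
  classical
  obtain ⟨v₀, hv₀⟩ := exists_ne (1 : V₀)
  let F : Γ → V₀ := fun x => if h : ∃ b, b ∈ B ∧ b⁻¹ * x ∈ E then φ h.choose v₀ else 1
  have hF : ∀ b x, b ∈ B → b⁻¹ * x ∈ E → F x = φ b v₀ := by
    intro b x hb hbx
    have h : ∃ b, b ∈ B ∧ b⁻¹ * x ∈ E := ⟨b, hb, hbx⟩
    have hc := h.choose_spec
    simp only [F, dif_pos h]
    have h1 : φ (b⁻¹ * h.choose) = 1 := by
      refine hker _ (mul_mem (inv_mem hb) hc.1) ?_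
      have := mul_mem hbx (inv_mem hc.2)
      simpa [mul_assoc] using this
    rw [map_mul, map_inv, inv_mul_eq_one] at h1
    rw [h1]
  have hmem : F ∈ indSub φ B E := by
    constructor
    · intro b hb x
      by_cases h : ∃ b, b ∈ B ∧ b⁻¹ * x ∈ E
      · obtain ⟨c, hc, hcx⟩ := h
        rw [hF c x hc hcx, hF (b * c) (b * x) (mul_mem hb hc) (by simpa [mul_assoc] using hcx),
          map_mul, MulAut.mul_apply]
      · have h' : ¬ ∃ c, c ∈ B ∧ c⁻¹ * (b * x) ∈ E := by
          rintro ⟨c, hc, hcx⟩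
          exact h ⟨b⁻¹ * c, mul_mem (inv_mem hb) hc, by simpa [mul_assoc] using hcx⟩
        simp only [F, dif_neg h, dif_neg h', map_one]
    · intro d hd x
      by_cases h : ∃ b, b ∈ B ∧ b⁻¹ * x ∈ E
      · obtain ⟨c, hc, hcx⟩ := h
        rw [hF c x hc hcx, hF c (d * x) hc]
        have := mul_mem (hE.conj_mem d hd c⁻¹) hcx
        simpa [mul_assoc] using this
      · have h' : ¬ ∃ c, c ∈ B ∧ c⁻¹ * (d * x) ∈ E := by
          rintro ⟨c, hc, hcx⟩
          refine h ⟨c, hc, ?_⟩
          have := mul_mem (inv_mem (hE.conj_mem d hd c⁻¹)) hcx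
          simpa [mul_assoc] using this
        simp only [F, dif_neg h, dif_neg h']
  refine ⟨⟨F, hmem⟩, fun h => hv₀ ?_⟩
  have h1 := congrFun (congrArg Subtype.val h) 1
  simp only at h1
  rw [hF 1 1 B.one_mem (by simp), map_one] at h1
  exact h1

end Induced

/-- The extension. -/
theorem exists_big_extension {Γ : Type} [Group Γ] [Finite Γ] {Q : Type*} [Group Q] (ρ : Γ →* Q)
    (hρ : Surjective ρ) (hnil : Group.IsNilpotent ρ.ker) {V₀ : Type} [Group V₀] [Finite V₀]
    [Nontrivial V₀] (hc : ∀ a b : V₀, a * b = b * a) (he : ∀ v : V₀, v ^ 2 = 1)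
    (φ : Γ →* MulAut V₀) (Bad R : ℕ → Prop)
    (hR : ∀ r, R r → r.Prime ∧ r ≠ 2 ∧ ¬ r ∣ Nat.card ρ.ker)
    (hfix : ∀ r, R r → ∀ y : Γ, orderOf y = r → ∀ v, φ y v = v → v = 1)
    (hbad : ∀ s, s.Prime → Bad s → s ∣ Nat.card ρ.ker →
      s ≠ 2 ∧ ∀ U : Subgroup Γ, IsPGroup s U → IsCyclic (U.map ρ)) (n : ℕ) :
    ∃ (X : Type) (_ : Group X) (_ : Finite X) (π : X →* Q), Surjective π ∧ n < Nat.card X ∧
      (∀ r : ℕ, r.Prime → r ∣ Nat.card X → r = 2 ∨ r ∣ Nat.card Γ) ∧
      (∀ a b : ℕ, a.Prime → b.Prime → a ≠ b → PAdj X a b →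
        PAdj Γ a b ∨ (b = 2 ∧ ¬ R a) ∨ (a = 2 ∧ ¬ R b)) ∧
      (∀ r : ℕ, r.Prime → r ∣ Nat.card π.ker → r = 2 ∨ (r ∣ Nat.card ρ.ker ∧ ¬ Bad r)) := by
  classical
  set D := ρ.ker with hD
  let B : Subgroup Γ := Subgroup.closure {y | R (orderOf y)}
  haveI hBn : B.Normal := normal_closure_of_invariant _ fun x hx g => by
    have : orderOf (g * x * g⁻¹) = orderOf x :=
      (MulAut.conj g).orderOf_eq x
    show R (orderOf (g * x * g⁻¹))
    rw [this]; exact hx
  let S := (Nat.card D).primeFactors.filter Bad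
  let E : Subgroup Γ := S.sup (sPart D)
  -- the structure of `E`
  have hE : ∀ T : Finset ℕ, T ⊆ S → (T.sup (sPart D)).Normal ∧
      ∀ r : ℕ, r.Prime → r ∣ Nat.card ↥(T.sup (sPart D)) → r ∈ T := by
    intro T
    induction T using Finset.induction with
    | empty =>
      intro _
      rw [Finset.sup_empty]
      refine ⟨inferInstance, fun r hr h => ?_⟩
      rw [Subgroup.card_bot] at h
      exact absurd (Nat.dvd_one.mp h) hr.ne_one
    | insert s T hsT ih =>
      intro hsub
      obtain ⟨ih1, ih2⟩ := ih ((Finset.subset_insert _ _).trans hsub)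
      rw [Finset.sup_insert]
      haveI := ih1
      haveI := sPart_normal D s
      refine ⟨inferInstance, fun r hr h => ?_⟩
      have hsp : s.Prime := Nat.prime_of_mem_primeFactors
        (Finset.mem_filter.mp (hsub (Finset.mem_insert_self _ _))).1
      haveI := Fact.mk hsp
      rcases (Nat.Prime.dvd_mul hr).mp (h.trans (Thompson.card_sup_dvd_mul _ _)) with h1 | h1
      · obtain ⟨k, hk⟩ := IsPGroup.iff_card.mp (isPGroup_sPart D hnil s)
        rw [hk] at h1
        rw [(Nat.prime_dvd_prime_iff_eq hr hsp).mp (hr.dvd_of_dvd_pow h1)]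
        exact Finset.mem_insert_self _ _
      · exact Finset.mem_insert_of_mem (ih2 r hr h1)
  obtain ⟨hEn, hEp⟩ := hE S subset_rfl
  haveI : E.Normal := hEn
  have hED : E ≤ D := Finset.sup_le fun s _ => sPart_le D s
  have hmemE : ∀ {s : ℕ}, s.Prime → Bad s → s ∣ Nat.card D → sPart D s ≤ E := fun hs hb hd =>
    Finset.le_sup (f := sPart D)
      (Finset.mem_filter.mpr ⟨Nat.mem_primeFactors.mpr ⟨hs, hd, Nat.card_pos.ne'⟩, hb⟩)
  -- bad elements of `B ⊓ D` act trivially
  have hscal : ∀ s : ℕ, s.Prime → Bad s → s ∣ Nat.card D → ∀ d ∈ B, d ∈ D →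
      ∀ k : ℕ, d ^ s ^ k = 1 → φ d = 1 := by
    intro s hs hb hsD
    haveI := Fact.mk hs
    obtain ⟨hs2, hcyc⟩ := hbad s hs hb hsD
    set f : B →* (φ.comp B.subtype).range := (φ.comp B.subtype).rangeRestrict with hf
    have hfs : Surjective f := MonoidHom.rangeRestrict_surjective _
    let S₀ : Set B := B.subtype ⁻¹' {y | R (orderOf y)}
    have hgen : Subgroup.closure (f '' S₀) = ⊤ := by
      rw [← MonoidHom.map_closure]
      have : Subgroup.closure S₀ = ⊤ := Subgroup.closure_closure_coe_preimage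
      rw [this, Subgroup.map_top_of_surjective _ hfs]
    have hcop : ∀ k ∈ f '' S₀, (orderOf k).Coprime s := by
      rintro _ ⟨y, hy, rfl⟩
      have hy' : R (orderOf (y : Γ)) := hy
      refine Nat.Coprime.coprime_dvd_left (orderOf_map_dvd f y) ?_
      rw [← Subgroup.orderOf_coe]
      obtain ⟨hr, -, hrD⟩ := hR _ hy'
      exact (Nat.coprime_primes hr hs).mpr fun h => hrD (h ▸ hsD)
    have hcent : ∀ d : B, (d : Γ) ∈ D → ∀ k : ℕ, (d : Γ) ^ s ^ k = 1 →
        f d ∈ Subgroup.center _ := by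
      intro d hd k hk
      have hle : Subgroup.closure (f '' S₀) ≤ Subgroup.centralizer {f d} := by
        rw [Subgroup.closure_le]
        rintro _ ⟨y, hy, rfl⟩
        have hy' : R (orderOf (y : Γ)) := hy
        obtain ⟨hr, hr2, hrD⟩ := hR _ hy'
        haveI := sPart_normal D s
        have hne : s ≠ orderOf (y : Γ) := fun h => hrD (h ▸ hsD)
        have h1 := LinAct.map_commutator_eq_one (ℓ := 2) (s := s) hr hne hs2.symm hr2.symm hc he φ
          (y : Γ) (pow_orderOf_eq_one _) (hfix _ hy' _ rfl) (sPart D s)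
          (isPGroup_sPart D hnil s) (by simp [Subgroup.normalizer_eq_top])
          (fun h => absurd h hs2) (mem_sPart hd hk)
        rw [map_commutatorElement, commutatorElement_eq_one_iff_mul_comm] at h1
        rw [SetLike.mem_coe, Subgroup.mem_centralizer_singleton_iff]
        exact Subtype.ext h1.symm
      rw [hgen] at hle
      rw [Subgroup.mem_center_iff]
      exact fun g => Subgroup.mem_centralizer_singleton_iff.mp (hle (Subgroup.mem_top g))
    let U : Sylow s B := default
    let P := U.mapSurjective hfs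
    haveI := hcyc ((U : Subgroup B).map B.subtype) (U.isPGroup'.map _)
    obtain ⟨⟨x, hx⟩, hgx⟩ := IsCyclic.exists_generator (α := ((U : Subgroup B).map B.subtype).map ρ)
    obtain ⟨_, ⟨u, hu, rfl⟩, rfl⟩ := hx
    have hform : ∀ a ∈ (U : Subgroup B), ∃ i : ℤ, f ((u ^ i)⁻¹ * a) ∈ Subgroup.center _ := by
      intro a ha
      obtain ⟨i, hi⟩ := Subgroup.mem_zpowers_iff.mp
        (hgx ⟨ρ (a : Γ), _, ⟨a, ha, rfl⟩, rfl⟩)
      have hi' : ρ (u : Γ) ^ i = ρ (a : Γ) := congrArg Subtype.val hi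
      have hmem : (u ^ i)⁻¹ * a ∈ (U : Subgroup B) := mul_mem (inv_mem (zpow_mem hu i)) ha
      obtain ⟨k, hk⟩ := U.isPGroup' ⟨_, hmem⟩
      refine ⟨i, hcent _ ?_ k ?_⟩
      · rw [hD, MonoidHom.mem_ker]
        simp [hi']
      · have := congrArg (fun z : (U : Subgroup B) => ((z : B) : Γ)) hk
        simpa using this
    have hab : ∀ a ∈ (P : Subgroup (φ.comp B.subtype).range),
        ∀ b ∈ (P : Subgroup (φ.comp B.subtype).range), a * b = b * a := by
      rintro _ ⟨a, ha, rfl⟩ _ ⟨b, hb, rfl⟩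
      obtain ⟨i, hi⟩ := hform a ha
      obtain ⟨j, hj⟩ := hform b hb
      have ea : f a = f u ^ i * f ((u ^ i)⁻¹ * a) := by simp
      have eb : f b = f u ^ j * f ((u ^ j)⁻¹ * b) := by simp
      have c1 : ∀ g, Commute (f ((u ^ i)⁻¹ * a)) g := fun g => (Subgroup.mem_center_iff.mp hi g).symm
      have c2 : ∀ g, Commute (f ((u ^ j)⁻¹ * b)) g := fun g => (Subgroup.mem_center_iff.mp hj g).symm
      rw [ea, eb]
      exact (((Commute.zpow_zpow_self (f u) i j).mul_right (c2 _).symm).mul_left (c1 _)).eq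
    intro d hdB hdD k hk
    have := eq_one_of_central (s := s) (f '' S₀) hcop hgen P hab
      (hcent ⟨d, hdB⟩ hdD k hk) (k := k) (by
        rw [← map_pow, show (⟨d, hdB⟩ : B) ^ s ^ k = 1 from Subtype.ext hk, map_one])
    exact congrArg Subtype.val this
  have hker : ∀ d ∈ B, d ∈ E → φ d = 1 := by
    intro d hdB hdE
    by_contra hne
    obtain ⟨s, hs, hsd⟩ := Nat.exists_prime_and_dvd (mt orderOf_eq_one_iff.mp hne)
    have hsE : s ∈ S := hEp s hs
      (hsd.trans ((orderOf_map_dvd φ d).trans (Subgroup.orderOf_dvd_natCard E hdE)))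
    obtain ⟨hsD, hsb⟩ := Finset.mem_filter.mp hsE
    obtain ⟨k, m, hm, hkm⟩ := exists_pPart hs d
    have h1 := hscal s hs hsb (Nat.dvd_of_mem_primeFactors hsD) (d ^ m) (pow_mem hdB m)
      (pow_mem (hED hdE) m) k hkm
    rw [map_pow] at h1
    exact hm (hsd.trans (orderOf_dvd_of_pow_eq_one h1))
  -- the group
  let W := indSub φ B E
  have hW2 : ∀ w : W, w ^ 2 = 1 := fun w => Subtype.ext (funext fun x => by
    simpa using he ((w : Γ → V₀) x))
  have hWc : ∀ a b : W, a * b = b * a := fun a b => Subtype.ext (funext fun x => hc _ _)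
  obtain ⟨w₀, hw₀⟩ := exists_ne_one_indSub φ B E hker
  haveI : Nontrivial W := ⟨⟨w₀, 1, hw₀⟩⟩
  let act : Γ ⧸ E →* MulAut W := QuotientGroup.lift E (indAct φ B E) (le_ker_indAct φ B E)
  let act' : Γ ⧸ E →* MulAut (Fin n → W) :=
    { toFun := fun g => MulEquiv.piCongrRight fun _ => act g
      map_one' := MulEquiv.ext fun v => funext fun i => by simp
      map_mul' := fun g h => MulEquiv.ext fun v => funext fun i => by simp }
  let X := (Fin n → W) ⋊[act'] (Γ ⧸ E)
  haveI : Finite X := Finite.of_equiv _ SemidirectProduct.equivProd.symm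
  let ρ' : Γ ⧸ E →* Q := QuotientGroup.lift E ρ hED
  let π : X →* Q := ρ'.comp SemidirectProduct.rightHom
  have hright : ∀ (z : X) {r : ℕ}, r.Prime → orderOf z = r → z.right = 1 → r = 2 := by
    intro z r hr hz h1
    refine (Nat.prime_dvd_prime_iff_eq hr Nat.prime_two).mp ?_
    have hz' : z = SemidirectProduct.inl z.left := SemidirectProduct.ext (by simp) (by simp [h1])
    rw [← hz, hz', orderOf_injective _ SemidirectProduct.inl_injective]
    exact orderOf_dvd_of_pow_eq_one (funext fun i => hW2 _)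
  have hord : ∀ (z : X) {r : ℕ}, r.Prime → orderOf z = r → z.right ≠ 1 → orderOf z.right = r := by
    intro z r hr hz h1
    haveI := Fact.mk hr
    refine orderOf_eq_prime ?_ h1
    have : (SemidirectProduct.rightHom (φ := act')) (z ^ r) = 1 := by
      rw [← hz, pow_orderOf_eq_one, map_one]
    rwa [map_pow] at this
  refine ⟨X, inferInstance, inferInstance, π, ?_, ?_, ?_, ?_, ?_⟩
  · exact (QuotientGroup.lift_surjective_of_surjective E ρ hρ hED).comp
      SemidirectProduct.rightHom_surjective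
  · rw [Nat.card_congr (SemidirectProduct.equivProd : X ≃ _), Nat.card_prod]
    refine lt_of_lt_of_le ?_ (Nat.le_mul_of_pos_right _ Nat.card_pos)
    rw [Nat.card_fun, Nat.card_fin]
    exact Nat.lt_pow_self Finite.one_lt_card
  · intro r hr h
    haveI := Fact.mk hr
    obtain ⟨z, hz⟩ := exists_prime_orderOf_dvd_card' r h
    by_cases h1 : z.right = 1
    · exact Or.inl (hright z hr hz h1)
    · exact Or.inr ((hord z hr hz h1 ▸ orderOf_dvd_natCard z.right).trans
        (Subgroup.card_quotient_dvd_card E))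
  · have aux : ∀ a b : ℕ, a.Prime → b.Prime → a ≠ b → ∀ z : X, orderOf z = a * b →
        z.right ^ a = 1 → b = 2 ∧ ¬ R a := by
      intro a b ha hb hne z hz hza
      have hzb : orderOf (z ^ a) = b := Recog71.exists_pow_orderOf hz ha.ne_zero
      have hzb1 : (z ^ a).right = 1 := by
        rw [← SemidirectProduct.rightHom_eq_right, map_pow]; exact hza
      have hb2 : b = 2 := hright _ hb hzb hzb1
      refine ⟨hb2, fun hRa => ?_⟩
      obtain ⟨-, ha2, haD⟩ := hR a hRa
      have hza' : orderOf (z ^ b) = a :=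
        Recog71.exists_pow_orderOf (by rw [hz, mul_comm]) hb.ne_zero
      have hne1 : (z ^ b).right ≠ 1 := fun h => ha2 (hright _ ha hza' h)
      have hord' := hord _ ha hza' hne1
      obtain ⟨γ₀, hγ₀⟩ := QuotientGroup.mk'_surjective E (z ^ b).right
      set c := Nat.card E
      have hac : ¬ a ∣ c := fun h => haD (h.trans (Subgroup.card_dvd_of_le hED))
      have hγa : γ₀ ^ a ∈ E := by
        rw [← QuotientGroup.ker_mk' E, MonoidHom.mem_ker, map_pow, hγ₀, ← hord',
          pow_orderOf_eq_one]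
      have hγimg : QuotientGroup.mk' E (γ₀ ^ c) = ((z ^ b) ^ c).right := by
        rw [map_pow, hγ₀]
        exact (map_pow (SemidirectProduct.rightHom (φ := act')) (z ^ b) c).symm
      have hγ : orderOf (γ₀ ^ c) = a := by
        haveI := Fact.mk ha
        refine orderOf_eq_prime ?_ fun h => hac ?_
        · rw [← pow_mul, mul_comm, pow_mul]
          exact orderOf_dvd_iff_pow_eq_one.mp (Subgroup.orderOf_dvd_natCard E hγa)
        · rw [← hord']
          refine orderOf_dvd_of_pow_eq_one ?_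
          rw [← hγ₀, ← map_pow, h, map_one]
      have hfix' : ∀ w : Fin n → W, act' ((z ^ b) ^ c).right w = w → w = 1 := by
        intro w hw
        funext i
        have hwi := congrFun hw i
        rw [← hγimg] at hwi
        refine eq_one_of_indAct_fixed φ B E (y := γ₀ ^ c)
          (Subgroup.subset_closure (show R (orderOf (γ₀ ^ c)) by rw [hγ]; exact hRa)) ?_ hwi
        intro g v hv
        refine hfix a hRa _ ?_ v hv
        rw [← hγ]
        exact (MulAut.conj g).orderOf_eq _
      have hinl : z ^ a = SemidirectProduct.inl (z ^ a).left :=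
        SemidirectProduct.ext (by simp) (by simp [hzb1])
      have hcomm : Commute ((z ^ b) ^ c) (z ^ a) :=
        (((Commute.refl z).pow_pow b a).pow_left c)
      rw [hinl] at hcomm
      set p := (z ^ b) ^ c
      set w := (z ^ a).left
      have h2 : p.left * act' p.right w = w * act' 1 p.left :=
        congrArg SemidirectProduct.left hcomm.eq
      rw [map_one, MulAut.one_apply] at h2
      have h3 : act' p.right w = w := by
        refine mul_left_cancel (a := p.left) ?_
        rw [h2]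
        funext i
        exact hWc _ _
      have hw1 : z ^ a = 1 := by rw [hinl, hfix' w h3, map_one]
      rw [hw1, orderOf_one] at hzb
      exact hb.ne_one hzb.symm
    rintro a b ha hb hne ⟨z, hz⟩
    by_cases hk : orderOf z.right = a * b
    · exact Or.inl (PAdj.of_surjective (QuotientGroup.mk'_surjective E) ⟨z.right, hk⟩)
    have hd : orderOf z.right ∣ a * b := hz ▸ orderOf_map_dvd (SemidirectProduct.rightHom (φ := act')) z
    have : z.right ^ a = 1 ∨ z.right ^ b = 1 := by
      obtain ⟨c, e, hc', he', hce⟩ := Nat.dvd_mul.mp hd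
      rcases ha.eq_one_or_self_of_dvd c hc' with rfl | rfl
      · exact Or.inr (orderOf_dvd_iff_pow_eq_one.mp (by rw [← hce, one_mul]; exact he'))
      · rcases hb.eq_one_or_self_of_dvd e he' with rfl | rfl
        · exact Or.inl (orderOf_dvd_iff_pow_eq_one.mp (by rw [← hce, mul_one]))
        · exact absurd hce.symm hk
    rcases this with h | h
    · exact Or.inr (Or.inl (aux a b ha hb hne z hz h))
    · exact Or.inr (Or.inr (aux b a hb ha hne.symm z (by rw [hz, mul_comm]) h))
  · intro r hr h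
    haveI := Fact.mk hr
    obtain ⟨⟨z, hzk⟩, hz⟩ := exists_prime_orderOf_dvd_card' r h
    rw [← Subgroup.orderOf_coe] at hz
    by_cases h1 : z.right = 1
    · exact Or.inl (hright z hr hz h1)
    right
    have ho := hord z hr hz h1
    obtain ⟨γ, hγ⟩ := QuotientGroup.mk'_surjective E z.right
    have hγD : γ ∈ D := by
      have : ρ' z.right = 1 := hzk
      rw [← hγ] at this
      exact this
    have hrγ : r ∣ orderOf γ := ho ▸ hγ ▸ orderOf_map_dvd _ γ
    have hrD : r ∣ Nat.card D := hrγ.trans (Subgroup.orderOf_dvd_natCard D hγD)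
    refine ⟨hrD, fun hb => ?_⟩
    obtain ⟨k, m, hm, hkm⟩ := exists_pPart hr γ
    refine hm (ho ▸ orderOf_dvd_of_pow_eq_one ?_)
    rw [← hγ, ← map_pow]
    exact (QuotientGroup.eq_one_iff _).mpr (hmemE hr hb hrD (mem_sPart (pow_mem hγD m) hkm))

end Cfsg.Agent.PrimeGraph74
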