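import Cfsg.Agent.PrimeGraph74.Module
import Cfsg.Agent.Recog71.ThreePrimes
import Cfsg.Agent.LAE65.CyclicPGroup
import Cfsg.Agent.Lib.Frobenius.FixedPointFree
import Mathlib.GroupTheory.Frattini

/-!
A normal subgroup of even order in which 2 is adjacent to all odd primes gives unboundedly many
groups with the same prime graph.
-/

set_option autoImplicit false
set_option linter.style.haveILetI false

namespace Cfsg.Agent.PrimeGraph74

open Subgroup Function

variable {G : Type} [Group G] [Finite G]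

/-- A nonadjacency inside `N` makes the `s`-subgroups of `G ⧸ N` cyclic. -/
theorem isCyclic_image (N : Subgroup G) [N.Normal] {s t : ℕ} [hs : Fact s.Prime] [ht : Fact t.Prime]
    (hs2 : s ≠ 2) (hst : t ≠ s) (htN : t ∣ Nat.card N) (hna : ¬ PAdj G s t) (U : Subgroup G)
    (hU : IsPGroup s U) : IsCyclic (U.map (QuotientGroup.mk' N)) := by
  let T : Sylow t N := default
  let T' : Subgroup G := (T : Subgroup N).map N.subtype
  have hT' : IsPGroup t T' := T.isPGroup'.map _
  have hT'ne : T' ≠ ⊥ := by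
    intro h
    have := T.dvd_card_of_dvd_card htN
    rw [Nat.card_congr ((T : Subgroup N).equivMapOfInjective _ N.subtype_injective).toEquiv] at this
    rw [show (T : Subgroup N).map N.subtype = T' from rfl, h, Subgroup.card_bot] at this
    exact ht.out.ne_one (Nat.dvd_one.mp this)
  set M : Subgroup G := normalizer (T' : Set G) with hM
  have hMN : M ⊔ N = ⊤ := Sylow.normalizer_sup_eq_top T
  have hq : Surjective ((QuotientGroup.mk' N).comp M.subtype) := by
    intro q
    obtain ⟨g, rfl⟩ := QuotientGroup.mk'_surjective N q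
    obtain ⟨y, hy, m, hm, rfl⟩ := Subgroup.mem_sup_of_normal_right.mp (hMN.symm ▸ mem_top g)
    exact ⟨⟨y, hy⟩, by simp [(QuotientGroup.eq_one_iff m).mpr hm]⟩
  let P : Sylow s M := default
  let P' : Subgroup G := (P : Subgroup M).map M.subtype
  have hfpf : Frobenius.IsFPF P' T' := by
    refine ⟨(Subgroup.map_subtype_le _).trans le_rfl, fun a ha ha1 => ?_⟩
    rw [eq_bot_iff]
    intro v hv
    rw [Subgroup.mem_bot]
    by_contra hv1
    have hc : Commute a v := (Subgroup.mem_centralizer_singleton_iff.mp hv.2).symm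
    obtain ⟨i, hi⟩ := IsPGroup.iff_orderOf.mp (P.isPGroup'.map M.subtype) ⟨a, ha⟩
    obtain ⟨j, hj⟩ := IsPGroup.iff_orderOf.mp hT' ⟨v, hv.1⟩
    rw [← Subgroup.orderOf_coe] at hi hj
    simp only at hi hj
    cases i with
    | zero => exact ha1 (orderOf_eq_one_iff.mp (by simpa using hi))
    | succ i =>
      cases j with
      | zero => exact hv1 (orderOf_eq_one_iff.mp (by simpa using hj))
      | succ j =>
        obtain ⟨z, hz⟩ := Recog71.exists_orderOf_mul_of_commute (hc.pow_pow (s ^ i) (t ^ j)) hs.out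
          ht.out hst.symm
          (Recog71.exists_pow_orderOf (by rw [hi, pow_succ]) (pow_ne_zero _ hs.out.ne_zero))
          (Recog71.exists_pow_orderOf (by rw [hj, pow_succ]) (pow_ne_zero _ ht.out.ne_zero))
        exact hna ⟨z, hz⟩
  haveI : IsCyclic (P : Subgroup M) := by
    refine LAE65.isCyclic_of_unique_order_p hs2 P.isPGroup' fun x y hx hx1 hy => ?_
    haveI : Nontrivial (P : Subgroup M) := ⟨⟨x, 1, hx1⟩⟩
    haveI : Nontrivial (Subgroup.center (P : Subgroup M)) := P.isPGroup'.center_nontrivial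
    obtain ⟨k, hk⟩ := (P.isPGroup'.to_subgroup (Subgroup.center (P : Subgroup M))).exists_card_eq
    have hk0 : k ≠ 0 := by
      rintro rfl
      have := Finite.one_lt_card (α := Subgroup.center (P : Subgroup M))
      rw [hk, pow_zero] at this
      omega
    obtain ⟨z, hz⟩ := exists_prime_orderOf_dvd_card' (G := Subgroup.center (P : Subgroup M)) s
      (hk ▸ dvd_pow_self s hk0)
    rw [← Subgroup.orderOf_coe] at hz
    set z' : (P : Subgroup M) := (z : (P : Subgroup M))
    have hmem : ∀ w : (P : Subgroup M), w ^ s = 1 → w ∈ Subgroup.zpowers z' := by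
      intro w hw
      let ι : (P : Subgroup M) →* G := M.subtype.comp (P : Subgroup M).subtype
      have hι : Injective ι := M.subtype_injective.comp (P : Subgroup M).subtype_injective
      have := hfpf.mem_zpowers_of_commute hT'ne (p := s) (a := ι z') (b := ι w)
        ⟨_, z'.2, rfl⟩ ⟨_, w.2, rfl⟩ ((orderOf_injective ι hι z').trans hz)
        (by rw [← map_pow, hw, map_one])
        (Commute.map (Subgroup.mem_center_iff.mp z.2 w).symm ι)
      obtain ⟨i, hi⟩ := Subgroup.mem_zpowers_iff.mp this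
      exact Subgroup.mem_zpowers_iff.mpr ⟨i, hι (by rw [map_zpow, hi])⟩
    have hle : Subgroup.zpowers x ≤ Subgroup.zpowers z' :=
      Subgroup.zpowers_le.mpr (hmem x hx)
    have hcard : Nat.card (Subgroup.zpowers z') ≤ Nat.card (Subgroup.zpowers x) := by
      rw [Nat.card_zpowers, Nat.card_zpowers, hz, orderOf_eq_prime hx hx1]
    rw [Subgroup.eq_of_le_of_card_ge hle hcard]
    exact hmem y hy
  let P₂ : Sylow s (G ⧸ N) := P.mapSurjective hq
  haveI : IsCyclic (P₂ : Subgroup (G ⧸ N)) :=
    isCyclic_of_surjective (((QuotientGroup.mk' N).comp M.subtype).subgroupMap (P : Subgroup M))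
      (MonoidHom.subgroupMap_surjective _ _)
  obtain ⟨P₁, hP₁⟩ := (hU.map (QuotientGroup.mk' N)).exists_le_sylow
  haveI : IsCyclic (P₁ : Subgroup (G ⧸ N)) := (P₂.equiv P₁).isCyclic.mp inferInstance
  exact isCyclic_of_injective (Subgroup.inclusion hP₁) (Subgroup.inclusion_injective hP₁)

/-- A normal subgroup of even order in which `2` is adjacent to all odd primes. -/
theorem unbounded_of_two_adj (N : Subgroup G) [N.Normal] (h2N : 2 ∣ Nat.card N)
    (h2 : ∀ r : ℕ, r.Prime → r ≠ 2 → r ∣ Nat.card N → PAdj G 2 r) : Unbounded G := by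
  haveI : Fact (Nat.Prime 2) := ⟨Nat.prime_two⟩
  let S : Sylow 2 N := default
  let S' : Subgroup G := (S : Subgroup N).map N.subtype
  have hS' : IsPGroup 2 S' := S.isPGroup'.map _
  have hS'2 : 2 ∣ Nat.card S' := by
    rw [Nat.card_congr ((S : Subgroup N).equivMapOfInjective _ N.subtype_injective).symm.toEquiv]
    exact S.dvd_card_of_dvd_card h2N
  obtain ⟨Y, hYle, hY⟩ := exists_minimal_le_of_wellFoundedLT (fun Y : Subgroup G => Y ⊔ N = ⊤)
    (normalizer (S' : Set G)) (Sylow.normalizer_sup_eq_top S)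
  set ρ : Y →* G ⧸ N := (QuotientGroup.mk' N).comp Y.subtype with hρdef
  have hρ : Surjective ρ := by
    intro q
    obtain ⟨g, rfl⟩ := QuotientGroup.mk'_surjective N q
    obtain ⟨y, hy, m, hm, rfl⟩ := Subgroup.mem_sup_of_normal_right.mp (hY.1.symm ▸ mem_top g)
    exact ⟨⟨y, hy⟩, by simp [hρdef, (QuotientGroup.eq_one_iff m).mpr hm]⟩
  have hker : ∀ y : Y, y ∈ ρ.ker ↔ (y : G) ∈ N := fun y => QuotientGroup.eq_one_iff _
  have hnil : Group.IsNilpotent ρ.ker := by
    have hle : ρ.ker ≤ frattini Y := by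
      refine le_iInf₂ fun K hK => ?_
      by_contra hKle
      have htop : ρ.ker ⊔ K = ⊤ := hK.2 _ (lt_of_le_of_ne le_sup_right fun h =>
        hKle (h ▸ le_sup_left))
      have hKN : K.map Y.subtype ⊔ N = ⊤ := by
        refine top_le_iff.mp (hY.1 ▸ sup_le ?_ le_sup_right)
        intro y hy
        obtain ⟨a, ha, b, hb, hab⟩ := Subgroup.mem_sup_of_normal_left.mp
          (htop.symm ▸ mem_top (⟨y, hy⟩ : Y))
        have e : (a : G) * (b : G) = y := congrArg Subtype.val hab
        rw [← e]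
        exact mul_mem (Subgroup.mem_sup_right ((hker a).mp ha))
          (Subgroup.mem_sup_left ⟨b, hb, rfl⟩)
      have hYK : Y ≤ K.map Y.subtype := hY.2 hKN (Subgroup.map_subtype_le K)
      refine hK.1 (eq_top_iff.mpr fun y _ => ?_)
      obtain ⟨z, hz, hzy⟩ := hYK y.2
      exact (Subtype.ext hzy : z = y) ▸ hz
    haveI := frattini_nilpotent (G := Y)
    exact nilpotent_of_mulEquiv (Subgroup.subgroupOfEquivOfLe hle)
  have hDN : Nat.card ρ.ker ∣ Nat.card N :=
    Subgroup.card_dvd_of_injective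
      ((Y.subtype.comp ρ.ker.subtype).codRestrict N fun d => (hker d).mp d.2)
      fun a b h => by
        apply Subtype.ext
        apply Subtype.ext
        exact congrArg (fun z : N => (z : G)) h
  -- the module
  let V := Recog71.omegaCenter S' 2
  have hV0 : ∃ x ∈ V, x ≠ 1 := Recog71.omegaCenter_ne_bot hS' hS'2
  haveI : Nontrivial V := by
    obtain ⟨x, hx, hx1⟩ := hV0
    exact ⟨⟨⟨x, hx⟩, 1, fun h => hx1 (congrArg Subtype.val h)⟩⟩
  let φ : Y →* MulAut V :=
    { toFun := fun y =>
        { toFun := fun v => ⟨(y : G) * v * (y : G)⁻¹, Recog71.omegaCenter_conj (hYle y.2) v.2⟩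
          invFun := fun v => ⟨(y : G)⁻¹ * v * ((y : G)⁻¹)⁻¹,
            Recog71.omegaCenter_conj (inv_mem (hYle y.2)) v.2⟩
          left_inv := fun v => Subtype.ext (by simp [mul_assoc])
          right_inv := fun v => Subtype.ext (by simp [mul_assoc])
          map_mul' := fun v w => Subtype.ext (by simp [mul_assoc]) }
      map_one' := MulEquiv.ext fun v => Subtype.ext (by simp)
      map_mul' := fun y z => MulEquiv.ext fun v => Subtype.ext (by simp [mul_assoc]) }
  let Bad : ℕ → Prop := fun s =>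
    s ≠ 2 ∧ ∃ t : ℕ, t.Prime ∧ t ∣ Nat.card N ∧ t ≠ s ∧ ¬ PAdj G s t
  let R : ℕ → Prop := fun r => r.Prime ∧ r ≠ 2 ∧ ¬ PAdj G 2 r
  refine unbounded_of_forall (G := G) (Q := G ⧸ N) fun n => ?_
  obtain ⟨X, _, _, π, hπ, hn, hp, hadj, hkp⟩ := exists_big_extension ρ hρ hnil (V₀ := V)
    (fun a b => Subtype.ext (a.2.2.1 b b.2.1)) (fun v => Subtype.ext v.2.2.2) φ Bad R
    (fun r hr => ⟨hr.1, hr.2.1, fun h => hr.2.2 (h2 r hr.1 hr.2.1 (h.trans hDN))⟩)
    (fun r hr y hy v hv => by
      by_contra hv1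
      have hvo : orderOf (v : G) = 2 :=
        Recog71.orderOf_eq_of_mem_omegaCenter v.2 fun h => hv1 (Subtype.ext h)
      have hc : Commute (v : G) (y : G) := by
        have : (y : G) * v * (y : G)⁻¹ = v := congrArg Subtype.val hv
        exact (mul_inv_eq_iff_eq_mul.mp this).symm
      exact hr.2.2 (Recog71.exists_orderOf_mul_of_commute hc Nat.prime_two hr.1 (Ne.symm hr.2.1)
        hvo (by rw [Subgroup.orderOf_coe, hy])))
    (fun s hs hb _ => by
      obtain ⟨hs2, t, ht, htN, hts, hna⟩ := hb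
      refine ⟨hs2, fun U hU => ?_⟩
      haveI := Fact.mk hs
      haveI := Fact.mk ht
      rw [hρdef, ← Subgroup.map_map]
      exact isCyclic_image N hs2 hts htN hna _ (hU.map _)) n
  refine ⟨X, inferInstance, inferInstance, π, QuotientGroup.mk' N, QuotientGroup.mk'_surjective N,
    hπ, hn, fun r hr h => ?_, fun a b ha hb hne h => ?_, fun a b ha hb hne h1 h3 => ?_⟩
  · rcases hp r hr h with rfl | h
    · exact h2N.trans (Subgroup.card_subgroup_dvd_card N)
    · exact h.trans (Subgroup.card_subgroup_dvd_card Y)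
  · rcases hadj a b ha hb hne h with h | ⟨rfl, hR'⟩ | ⟨rfl, hR'⟩
    · obtain ⟨y, hy⟩ := h
      exact ⟨(y : G), by rw [Subgroup.orderOf_coe, hy]⟩
    · by_contra hc
      exact hR' ⟨ha, hne, fun h' => hc h'.symm⟩
    · by_contra hc
      exact hR' ⟨hb, hne.symm, hc⟩
  · rw [QuotientGroup.ker_mk'] at h1
    rcases hkp b hb h3 with rfl | ⟨hbD, hnb⟩
    · exact (h2 a ha hne h1).symm
    · by_cases hb2 : b = 2
      · subst hb2
        exact (h2 a ha hne h1).symm
      · by_contra hc
        exact hnb ⟨hb2, a, ha, h1, hne, fun h' => hc h'.symm⟩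

end Cfsg.Agent.PrimeGraph74
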